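import Cfsg.Agent.H70.SzUnique.FrameSimple
import Cfsg.Agent.H65.CIT.CN
import Cfsg.Agent.Frobenius.TwoFrobenius
import Cfsg.Agent.Frobenius.FPFAut
import Cfsg.Agent.Hall.Schmidt
import Cfsg.Agent.H24.SubnormalConjugate
import Cfsg.Agent.H40.SupSolvable
import Cfsg.Agent.H41.Nilpotent
import Cfsg.Agent.S0205
import Cfsg.Agent.S0215

/-!
Groups with a Frobenius system on their maximal solvable subgroups.
-/

set_option autoImplicit false
set_option linter.style.haveILetI false

namespace Cfsg.Agent.H70.FrobSys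

open Subgroup
open scoped Pointwise

universe u

variable {G : Type u} [Group G] [Finite G]

/-- Maximal solvable subgroups. -/
def IsMS (M : Subgroup G) : Prop :=
  Group.IsSolvable M ∧ ∀ M' : Subgroup G, M < M' → ¬ Group.IsSolvable M'

/-- A Frobenius system. -/
def IsSys (F : Subgroup G → Subgroup G) : Prop :=
  ∀ M : Subgroup G, IsMS M →
      F M ≤ M ∧ M ≤ Subgroup.normalizer (F M : Set G) ∧
      (∀ a ∈ M, a ∉ F M → ∀ x ∈ F M, x * a = a * x → x = 1) ∧
      (∀ g : G, g ∉ M → F M ⊓ (MulAut.conj g • F M) = ⊥) ∧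
      (F M ≠ ⊥ ∨ IsMulCommutative M)

theorem exists_ms {H : Subgroup G} (hH : Group.IsSolvable H) : ∃ M, IsMS M ∧ H ≤ M := by
  obtain ⟨M, hHM, hM⟩ := Finite.exists_le_maximal (p := fun K : Subgroup G => Group.IsSolvable K) hH
  exact ⟨M, ⟨hM.1, fun M' hlt hs => hlt.not_ge (hM.2 hs hlt.le)⟩, hHM⟩

variable {F : Subgroup G → Subgroup G} (hF : IsSys F)

omit [Finite G] in
include hF in
theorem mem_of_conj {M : Subgroup G} (hM : IsMS M) {x g : G} (hx : x ∈ F M) (hx1 : x ≠ 1)
    (hg : g * x * g⁻¹ ∈ F M) : g ∈ M := by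
  by_contra h
  exact hx1 ((conj_eq_one_iff (a := g)).1 (mem_bot.1
    (((hF M hM).2.2.2.1 g h) ▸ ⟨hg, ⟨x, hx, rfl⟩⟩)))

omit [Finite G] in
include hF in
theorem centralizer_le {M : Subgroup G} (hM : IsMS M) {x g : G} (hx : x ∈ F M) (hx1 : x ≠ 1)
    (hg : Commute g x) : g ∈ F M := by
  have hgM : g ∈ M := mem_of_conj hF hM hx hx1 (by rwa [hg.eq, mul_inv_cancel_right])
  by_contra h
  exact hx1 ((hF M hM).2.2.1 g hgM h x hx hg.symm.eq)

theorem ms_ne_top (hns : ¬ Group.IsSolvable G) {M : Subgroup G} (hM : IsMS M) : M ≠ ⊤ := by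
  rintro rfl
  have := hM.1
  exact hns (Group.isSolvable_of_surjective
    (f := (Subgroup.topEquiv : ↥(⊤ : Subgroup G) ≃* G).toMonoidHom) Subgroup.topEquiv.surjective)

include hF in
/-- Some maximal solvable subgroup is nonabelian. -/
theorem exists_nonabelian (hns : ¬ Group.IsSolvable G) : ∃ M : Subgroup G, IsMS M ∧ ¬ IsMulCommutative M := by
  classical
  by_contra hcon
  push Not at hcon
  obtain ⟨H, hH, hmin⟩ := Set.Finite.exists_minimal
    (s := {H : Subgroup G | ¬ Group.IsSolvable H}) (Set.toFinite _)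
    ⟨⊤, fun hs => hns (Group.isSolvable_of_surjective
      (f := (Subgroup.topEquiv : ↥(⊤ : Subgroup G) ≃* G).toMonoidHom) Subgroup.topEquiv.surjective)⟩
  refine hH (Hall.isSolvable_of_proper_nilpotent fun K hK => ?_)
  have hlt : K.map H.subtype < H := lt_of_le_of_ne (map_subtype_le K) fun e =>
    hK (by rw [← comap_map_eq_self_of_injective H.subtype_injective K, e, ← subgroupOf,
      subgroupOf_self])
  have hs : Group.IsSolvable (K.map H.subtype) := by
    by_contra h
    exact hlt.not_ge (hmin h hlt.le)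
  obtain ⟨M, hM, hle⟩ := exists_ms hs
  have := hcon M hM
  have : IsMulCommutative (K.map H.subtype) :=
    ⟨⟨fun a b => Subtype.ext (by
      have h := congrArg Subtype.val (mul_comm' (⟨a, hle a.2⟩ : M) ⟨b, hle b.2⟩)
      exact h)⟩⟩
  let e : K ≃* K.map H.subtype := K.equivMapOfInjective _ H.subtype_injective
  let _ : CommGroup K :=
    { (inferInstance : Group K) with
      mul_comm := fun a b => e.injective (by rw [map_mul, map_mul, mul_comm']) }
  infer_instance

include hF in
/-- There is no nontrivial abelian normal subgroup. -/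
theorem abelian_normal_eq_bot (hns : ¬ Group.IsSolvable G) {A : Subgroup G} (hA : A.Normal)
    (hc : ∀ a ∈ A, ∀ b ∈ A, a * b = b * a) : A = ⊥ := by
  obtain ⟨M, hM, hMna⟩ := exists_nonabelian hF hns
  obtain ⟨hFM, hnorm, -, -, hne⟩ := hF M hM
  have hFne : F M ≠ ⊥ := hne.resolve_right hMna
  by_contra hAne
  have hAs : Group.IsSolvable A := Group.isSolvable_of_comm fun a b => Subtype.ext (hc a a.2 b b.2)
  have hs : Group.IsSolvable ↥(M ⊔ A) := by
    rw [sup_comm]
    exact H40.isSolvable_sup (by rw [Subgroup.normalizer_eq_top]; exact le_top) hAs hM.1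
  have hAM : A ≤ M := by
    by_contra h
    exact hM.2 (M ⊔ A) (lt_of_le_of_ne le_sup_left fun e => h (le_sup_right.trans e.ge)) hs
  by_cases hAF : A ⊓ F M = ⊥
  · obtain ⟨⟨x, hx⟩, hx1⟩ := Subgroup.ne_bot_iff_exists_ne_one.1 hFne
    refine hAne ((eq_bot_iff_forall _).2 fun a ha => ?_)
    have hcomm : a * x * a⁻¹ * x⁻¹ ∈ A ⊓ F M := by
      refine ⟨?_, (F M).mul_mem (((mem_normalizer_iff.1 (hnorm (hAM ha))) x).1 hx) ((F M).inv_mem hx)⟩
      rw [show a * x * a⁻¹ * x⁻¹ = a * (x * a⁻¹ * x⁻¹) by group]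
      exact A.mul_mem ha (hA.conj_mem _ (A.inv_mem ha) x)
    rw [hAF, mem_bot, mul_inv_eq_one, mul_inv_eq_iff_eq_mul] at hcomm
    have haF : a ∈ F M := centralizer_le hF hM hx (fun e => hx1 (Subtype.ext e)) hcomm
    exact mem_bot.1 (hAF ▸ ⟨ha, haF⟩)
  · obtain ⟨⟨x, hxA, hxF⟩, hx1⟩ := Subgroup.ne_bot_iff_exists_ne_one.1 hAF
    have hx1' : x ≠ 1 := fun e => hx1 (Subtype.ext e)
    refine ms_ne_top hns hM ((eq_top_iff' _).2 fun g => mem_of_conj hF hM hxF hx1' ?_)
    exact centralizer_le hF hM hxF hx1' (hc _ (hA.conj_mem x hxA g) x hxA)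

include hF in
/-- There is no nontrivial solvable normal subgroup. -/
theorem solvable_normal_eq_bot (hns : ¬ Group.IsSolvable G) {K : Subgroup G} (hK : K.Normal)
    (hs : Group.IsSolvable K) : K = ⊥ := by
  by_contra hne
  have : Nontrivial K := (nontrivial_iff_ne_bot K).2 hne
  obtain ⟨m, hm⟩ := (Group.isSolvable_def K).1 hs
  classical
  have hex : ∃ m, derivedSeries K m = ⊥ := ⟨m, hm⟩
  have hm0 : Nat.find hex ≠ 0 := fun h => by
    have := Nat.find_spec hex
    rw [h, derivedSeries_zero] at this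
    exact top_ne_bot this
  obtain ⟨j, hj⟩ := Nat.exists_eq_succ_of_ne_zero hm0
  haveI : (derivedSeries K j).Characteristic := derivedSeries_characteristic K j
  haveI := hK
  have h := abelian_normal_eq_bot hF hns (A := (derivedSeries K j).map K.subtype) inferInstance (by
    rintro _ ⟨a, ha, rfl⟩ _ ⟨b, hb, rfl⟩
    have h0 := Nat.find_spec hex
    rw [hj, derivedSeries_succ] at h0
    exact congrArg Subtype.val (mem_centralizer_iff.1
      (commutator_eq_bot_iff_le_centralizer.1 h0 ha) b hb).symm)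
  rw [map_eq_bot_iff_of_injective _ K.subtype_injective] at h
  have := Nat.find_le (h := hex) h
  omega

include hF in
theorem odd_core (hns : ¬ Group.IsSolvable G) (K : Subgroup G) (hK : K.Normal)
    (ho : Odd (Nat.card K)) : K = ⊥ :=
  solvable_normal_eq_bot hF hns hK (S0205.result ho)

include hF in
/-- A Sylow two-subgroup has at least two involutions. -/
theorem two_involutions (hns : ¬ Group.IsSolvable G) (T : Sylow 2 G) {u : G} (hu : orderOf u = 2)
    (huT : u ∈ (T : Subgroup G)) : ∃ v ∈ (T : Subgroup G), orderOf v = 2 ∧ v ≠ u := by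
  by_contra hcon
  push Not at hcon
  obtain ⟨K, hK, hKodd, hKmem⟩ := S0215.result T u hu huT fun g hg =>
    hcon _ hg ((H65.orderOf_conj' g u).trans hu)
  have hKb := odd_core hF hns K hK hKodd
  have hc : u ∈ Subgroup.center G := mem_center_iff.2 fun g => by
    have h := hKmem g
    rw [hKb, mem_bot, mul_inv_eq_one, mul_inv_eq_iff_eq_mul] at h
    exact h.symm
  have h := solvable_normal_eq_bot hF hns (K := zpowers u)
    ⟨fun a ha g => by
      have : a ∈ Subgroup.center G := (zpowers_le.2 hc) ha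
      rwa [mem_center_iff.1 this g, mul_inv_cancel_right]⟩
    (Group.isSolvable_of_comm fun a b => mul_comm' a b)
  exact H65.ne_one_of_orderOf hu (zpowers_eq_bot.1 h)

include hF in
/-- An element of order two of `M` outside a kernel inverts it. -/
theorem inverts {M : Subgroup G} (hM : IsMS M) {u : G} (huM : u ∈ M) (hu : orderOf u = 2)
    (huF : u ∉ F M) {x : G} (hx : x ∈ F M) : u * x * u⁻¹ = x⁻¹ := by
  obtain ⟨-, hnorm, hfix, -, -⟩ := hF M hM
  let φ : F M →* F M :=
    { toFun := fun y => ⟨u * y * u⁻¹, (mem_normalizer_iff.1 (hnorm huM) y).1 y.2⟩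
      map_one' := Subtype.ext (by simp)
      map_mul' := fun a b => Subtype.ext (by simp [mul_assoc]) }
  have hfp : MonoidHom.FixedPointFree φ := fun y hy => Subtype.ext <|
    hfix u huM huF y y.2 (mul_inv_eq_iff_eq_mul.1 (congrArg Subtype.val hy)).symm
  have h4 := hfp.coe_eq_inv_of_involutive (φ := φ) fun y => Subtype.ext (by
    show u * (u * (y : G) * u⁻¹) * u⁻¹ = y
    rw [show u * (u * (y : G) * u⁻¹) * u⁻¹ = (u * u) * y * (u * u)⁻¹ by group,
      H65.mul_self_eq_one hu]
    group)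
  exact congrArg Subtype.val (congrFun h4 ⟨x, hx⟩)

include hF in
/-- A maximal solvable subgroup containing a Sylow two-subgroup and with kernel of odd order is abelian. -/
theorem abelian_of_odd (hns : ¬ Group.IsSolvable G) (T : Sylow 2 G) {u : G} (hu : orderOf u = 2)
    (huT : u ∈ (T : Subgroup G)) (huc : ∀ t ∈ (T : Subgroup G), Commute t u)
    (hodd : ∀ M, IsMS M → ∀ v ∈ F M, orderOf v ≠ 2)
    {M : Subgroup G} (hM : IsMS M) (hTM : (T : Subgroup G) ≤ M) : IsMulCommutative M := by
  by_contra hna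
  have hFne : F M ≠ ⊥ := (hF M hM).2.2.2.2.resolve_right hna
  obtain ⟨⟨x, hx⟩, hx1⟩ := Subgroup.ne_bot_iff_exists_ne_one.1 hFne
  obtain ⟨v, hvT, hv, hvu⟩ := two_involutions hF hns T hu huT
  have huv : orderOf (u * v) = 2 :=
    H65.orderOf_mul_two hu hv (huc v hvT).symm fun e => hvu e.symm
  have h1 := inverts hF hM (hTM huT) hu (fun h => hodd M hM u h hu) hx
  have h2 := inverts hF hM (hTM hvT) hv (fun h => hodd M hM v h hv) hx
  have h3 := inverts hF hM (mul_mem (hTM huT) (hTM hvT)) huv (fun h => hodd M hM _ h huv) hx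
  rw [show u * v * x * (u * v)⁻¹ = u * (v * x * v⁻¹) * u⁻¹ by group, h2,
    show u * x⁻¹ * u⁻¹ = (u * x * u⁻¹)⁻¹ by group, h1, inv_inv] at h3
  exact hx1 (Subtype.ext ((hF M hM).2.2.1 u (hTM huT) (fun h => hodd M hM u h hu) x hx (by
    have : u * x * u⁻¹ = x := h1.trans h3.symm
    exact (mul_inv_eq_iff_eq_mul.1 this).symm)))

include hF in
/-- Some kernel has even order. -/
theorem exists_even (hns : ¬ Group.IsSolvable G) :
    ∃ M, IsMS M ∧ ∃ u ∈ F M, orderOf u = 2 := by
  classical
  by_contra hcon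
  push Not at hcon
  haveI : Fact (Nat.Prime 2) := ⟨Nat.prime_two⟩
  have heven : 2 ∣ Nat.card G := by
    rw [← even_iff_two_dvd, ← Nat.not_odd_iff_even]
    exact fun ho => hns (S0205.result ho)
  obtain ⟨T⟩ : Nonempty (Sylow 2 G) := inferInstance
  have hT : (T : Subgroup G) ≠ ⊥ := T.ne_bot_of_dvd_card heven
  obtain ⟨z, hzT, hzc, hz⟩ := PGroups.exists_mem_center_orderOf_eq T.2
    (⊤ : Subgroup ↥(T : Subgroup G)) (by
      haveI := (Subgroup.nontrivial_iff_ne_bot _).2 hT
      exact top_ne_bot)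
  set u : G := (z : G) with hudef
  have hu : orderOf u = 2 := by rw [hudef, Subgroup.orderOf_coe, hz]
  have huc : ∀ t ∈ (T : Subgroup G), Commute t u := fun t ht =>
    congrArg Subtype.val (mem_center_iff.1 hzc ⟨t, ht⟩)
  set N := Subgroup.normalizer ((T : Subgroup G) : Set G) with hN
  haveI hTs : Group.IsSolvable ↥(T : Subgroup G) := by
    haveI := T.2.isNilpotent
    infer_instance
  have hTN : (T : Subgroup G) ≤ N := le_normalizer
  haveI : ((T : Subgroup G).subgroupOf N).Normal := normal_subgroupOf_of_le_normalizer le_rfl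
  have hNs : Group.IsSolvable N := by
    haveI h1 : Group.IsSolvable ↥((T : Subgroup G).subgroupOf N) :=
      Group.isSolvable_of_isSolvable_injective
        (f := (Subgroup.subgroupOfEquivOfLe hTN).toMonoidHom) (MulEquiv.injective _)
    haveI h2 : Group.IsSolvable (N ⧸ (T : Subgroup G).subgroupOf N) := by
      refine S0205.result (Nat.not_even_iff_odd.1 fun he => T.not_dvd_index ?_)
      rw [← index_eq_card, even_iff_two_dvd] at he
      exact he.trans (relIndex_dvd_index_of_le hTN)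
    exact Group.isSolvable_of_ker_le_range ((T : Subgroup G).subgroupOf N).subtype
      (QuotientGroup.mk' ((T : Subgroup G).subgroupOf N))
      (by rw [QuotientGroup.ker_mk', Subgroup.range_subtype])
  obtain ⟨M, hM, hNM⟩ := exists_ms hNs
  have := abelian_of_odd hF hns T hu z.2 huc hcon hM (hTN.trans hNM)
  have hP : N ≤ centralizer ((T : Subgroup G) : Set G) := fun g hg => mem_centralizer_iff.2
    fun t ht => congrArg Subtype.val (mul_comm' (⟨t, hNM (hTN ht)⟩ : M) ⟨g, hNM hg⟩)
  set K := (MonoidHom.transferSylow T hP).ker with hK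
  haveI hKn : K.Normal := MonoidHom.normal_ker _
  have hKc := MonoidHom.ker_transferSylow_isComplement' T hP
  have hKb : K = ⊥ := odd_core hF hns K hKn (Nat.not_even_iff_odd.1 fun he =>
    MonoidHom.not_dvd_card_ker_transferSylow T hP (even_iff_two_dvd.1 he))
  have hcard := hKc.card_mul_card
  rw [← hK, hKb, Subgroup.card_bot, one_mul] at hcard
  refine hns (Group.isSolvable_of_surjective (f := (T : Subgroup G).subtype) fun g => ?_)
  exact ⟨⟨g, (eq_top_of_card_eq _ hcard).ge (mem_top g)⟩, rfl⟩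

include hF in
/-- The frame of a nonsolvable group with a Frobenius system. -/
theorem exists_frame (hns : ¬ Group.IsSolvable G) : Nonempty (H65.CIT.Frame G) := by
  classical
  haveI : Fact (Nat.Prime 2) := ⟨Nat.prime_two⟩
  obtain ⟨M, hM, u, huF, hu⟩ := exists_even hF hns
  obtain ⟨hFM, hnorm, hfix, hti, -⟩ := hF M hM
  have hu1 : u ≠ 1 := H65.ne_one_of_orderOf hu
  obtain ⟨T, hT⟩ := (isPGroup_zpowers_two hu).exists_le_sylow
  have huT : u ∈ (T : Subgroup G) := hT (mem_zpowers u)
  obtain ⟨z₀, -, hzc, hz₀⟩ := PGroups.exists_mem_center_orderOf_eq T.2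
    (⊤ : Subgroup ↥(T : Subgroup G)) (by
      haveI : Nontrivial ↥(T : Subgroup G) :=
        ⟨⟨⟨u, huT⟩, 1, fun e => hu1 (congrArg Subtype.val e)⟩⟩
      exact top_ne_bot)
  set z : G := (z₀ : G) with hzdef
  have hz : orderOf z = 2 := by rw [hzdef, Subgroup.orderOf_coe, hz₀]
  have hz1 := H65.ne_one_of_orderOf hz
  have htz : ∀ t ∈ (T : Subgroup G), Commute t z := fun t ht =>
    congrArg Subtype.val (mem_center_iff.1 hzc ⟨t, ht⟩)
  have hzF : z ∈ F M := centralizer_le hF hM huF hu1 (htz u huT).symm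
  have hTF : (T : Subgroup G) ≤ F M := fun t ht => centralizer_le hF hM hzF hz1 (htz t ht)
  have hinvol : ∀ w : G, orderOf w = 2 → w ∈ M → w ∈ F M := by
    intro w hw hwM
    by_contra hwF
    have h := inverts hF hM hwM hw hwF hzF
    rw [H65.inv_eq_self hz] at h
    exact hz1 (hfix w hwM hwF z hzF (mul_inv_eq_iff_eq_mul.1 h).symm)
  have hnil : Group.IsNilpotent (F M) := by
    by_cases hFM' : F M = M
    · exfalso
      have hfc : Cfsg.IsFrobeniusComplement M := by
        refine ⟨fun e => hz1 ?_, ms_ne_top hns hM, fun g hg => ?_⟩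
        · exact mem_bot.1 (e ▸ hFM hzF)
        · have := hti g hg
          rwa [hFM'] at this
      obtain ⟨v, hvT, hv, hvz⟩ := two_involutions hF hns T hz z₀.2
      exact hvz (Frobenius.involution_unique hfc (hFM (hTF hvT)) (H65.ne_one_of_orderOf hv)
        (H65.mul_self_eq_one hv) (hFM hzF) hz1 (H65.mul_self_eq_one hz))
    · obtain ⟨a, haM, haF⟩ := SetLike.exists_of_lt (lt_of_le_of_ne hFM hFM')
      have hidx : ∀ b ∈ M, b ∉ F M → ∀ y : F M, b * y * b⁻¹ = y → y = 1 := fun b hbM hbF y hy =>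
        Subtype.ext (hfix b hbM hbF y y.2 (mul_inv_eq_iff_eq_mul.1 hy).symm)
      -- an element of prime order modulo the kernel
      have hex : ∃ k, 0 < k ∧ a ^ k ∈ F M :=
        ⟨orderOf a, orderOf_pos a, by rw [pow_orderOf_eq_one]; exact one_mem _⟩
      obtain ⟨hk0, hk⟩ := Nat.find_spec hex
      have hk1 : Nat.find hex ≠ 1 := fun h => haF (by rwa [h, pow_one] at hk)
      obtain ⟨p, hp, hpd⟩ := Nat.exists_prime_and_dvd hk1
      obtain ⟨r, hr⟩ := hpd
      set b := a ^ r with hb
      have hbF : b ∉ F M := fun h => by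
        have hr0 : 0 < r := Nat.pos_of_ne_zero fun h0 => by rw [h0, mul_zero] at hr; omega
        have := Nat.find_min' hex (m := r) ⟨hr0, h⟩
        nlinarith [hp.two_le]
      have hbM : b ∈ M := pow_mem haM r
      have hbp : b ^ p = 1 := by
        have hbpF : b ^ p ∈ F M := by rwa [hb, ← pow_mul, mul_comm, ← hr]
        exact hfix b hbM hbF _ hbpF (by rw [← pow_succ, ← pow_succ'])
      let φ : F M ≃* F M :=
        { toFun := fun y => ⟨b * y * b⁻¹, (mem_normalizer_iff.1 (hnorm hbM) y).1 y.2⟩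
          invFun := fun y => ⟨b⁻¹ * y * b⁻¹⁻¹,
            (mem_normalizer_iff.1 (hnorm (inv_mem hbM)) y).1 y.2⟩
          left_inv := fun y => Subtype.ext (by simp [mul_assoc])
          right_inv := fun y => Subtype.ext (by simp [mul_assoc])
          map_mul' := fun x y => Subtype.ext (by simp [mul_assoc]) }
      have hiter : ∀ (j : ℕ) (y : F M), ((φ^[j] y : F M) : G) = b ^ j * y * (b ^ j)⁻¹ := by
        intro j
        induction j with
        | zero => intro y; simp
        | succ j ih =>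
          intro y
          rw [Function.iterate_succ_apply', pow_succ']
          show b * ((φ^[j] y : F M) : G) * b⁻¹ = _
          rw [ih]; group
      exact Frobenius.isNilpotent_of_fpf (Nat.card (F M)) hp (F M) φ rfl
        (fun y hy => hidx b hbM hbF y (congrArg Subtype.val hy))
        (fun y => Subtype.ext (by rw [hiter, hbp]; simp))
  have hCz : centralizer ({z} : Set G) = F M := by
    refine le_antisymm (fun g hg => centralizer_le hF hM hzF hz1 (H65.CIT.mem_C.1 hg))
      fun y hy => H65.CIT.mem_C.2 ?_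
    obtain ⟨y₂, y', rfl, h₂, h', ⟨k, hk⟩, ho⟩ := H65.CIT.exists_two_split y
    have hsub : ∀ w ∈ zpowers (y₂ * y'), w ∈ F M := fun w hw => (zpowers_le.2 hy) hw
    refine Commute.mul_left (htz _ (H65.CIT.mem_sylow_of_nilpotent hnil T hTF (hsub _ h₂) hk)) ?_
    exact H41.commute_of_coprime_of_isNilpotent hnil (hsub _ h') hzF (by
      rw [hz]; exact Nat.coprime_two_right.2 ho)
  refine ⟨⟨z, hz, ⟨T, by rw [hCz]; exact hTF⟩, ?_, ?_, ?_, ?_, odd_core hF hns⟩⟩
  · rw [hCz]
    exact fun x hx hx1 g hg => centralizer_le hF hM hx hx1 (H65.CIT.mem_C.1 hg)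
  · rw [hCz]
    exact fun x hx hx1 g hg => hnorm (mem_of_conj hF hM hx hx1 hg)
  · rw [hCz]
    intro htop
    refine ms_ne_top hns hM ((eq_top_iff' _).2 fun g => mem_of_conj hF hM hzF hz1 ?_)
    exact (mem_normalizer_iff.1 (htop.ge (mem_top g)) z).1 hzF
  · rw [hCz]
    intro w hw hwN
    exact hinvol w hw (mem_of_conj hF hM hzF hz1 ((mem_normalizer_iff.1 hwN z).1 hzF))
where
  isPGroup_zpowers_two {u : G} (hu : orderOf u = 2) : IsPGroup 2 (zpowers u) :=
    IsPGroup.of_card (n := 1) (by rw [Nat.card_zpowers, hu, pow_one])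

end Cfsg.Agent.H70.FrobSys
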